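import Groth.Agent.AlgSpPts.Dim

/-!
# Finite surjective morphisms preserve the dimension
-/

set_option autoImplicit false

universe u

open CategoryTheory AlgebraicGeometry

namespace Groth.Agent.Deform.IsogSub

attribute [local instance] specializationOrder

/-- A finite surjective morphism preserves the dimension. -/
theorem dim_eq {X Y : Scheme.{u}} (f : X ⟶ Y) [IsFinite f] [Surjective f] :
    topologicalKrullDim ↥X = topologicalKrullDim ↥Y := by
  suffices h : topologicalKrullDim ↥X ≤ topologicalKrullDim ↥Y ∧ topologicalKrullDim ↥Y ≤ topologicalKrullDim ↥X from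
    le_antisymm h.1 h.2
  rw [AlgSpPts.topologicalKrullDim_eq_krullDim, AlgSpPts.topologicalKrullDim_eq_krullDim]
  refine ⟨Order.krullDim_le_of_strictMono _ (AlgSpPts.strictMono_of_lqf f), iSup_le fun p => ?_⟩
  obtain ⟨q, -, hq⟩ : ∃ q : LTSeries ↥X, f q.head = p.head ∧ q.length = p.length := by
    induction p using RelSeries.inductionOn with
    | singleton y =>
      obtain ⟨x, hx⟩ := f.surjective y
      exact ⟨RelSeries.singleton _ x, hx, rfl⟩
    | cons p y hy ih =>
      obtain ⟨q, hq, hl⟩ := ih
      have hy' : y < p.head := hy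
      obtain ⟨a, ha, hfa⟩ := f.isClosedMap.specializingMap (show f q.head ⤳ y by rw [hq]; exact hy'.le)
      have hlt : a < q.head := lt_of_le_of_ne ha fun e => hy'.ne (by rw [← hfa, e, hq])
      exact ⟨q.cons a hlt, by simpa using hfa, by simp [hl]⟩
  rw [← hq]
  exact le_iSup (fun q : LTSeries ↥X => ((q.length : ℕ∞) : WithBot ℕ∞)) q

end Groth.Agent.Deform.IsogSub
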