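import Groth.Agent.Deform.IsogProps.Basic
import Groth.Agent.Deform.MaxNormal.Basic
import Groth.Agent.Deform.Chev.Components
import Groth.Agent.GrpSchLib.RedSubgroup
import Groth.Agent.ChevGen.Main
import Groth.Agent.GrpSchLib.PerfectSmooth
import Groth.Agent.Deform.IsogSub.Dim

/-!
# Smooth connected subgroups under isogenies
-/

set_option autoImplicit false
set_option linter.style.haveILetI false
set_option linter.unusedSectionVars false
set_option maxHeartbeats 1000000

universe u

open CategoryTheory CategoryTheory.Limits MonoidalCategory CartesianMonoidalCategory AlgebraicGeometry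
open scoped MonObj

attribute [local instance] CategoryTheory.Hom.monoid CategoryTheory.Hom.group

noncomputable section

namespace Groth.Agent.Deform.IsogSub

open GrpSchLib (exists_grpObj_of_mono)

variable {k : Type u} [Field k] [IsAlgClosed k] {G H : Over (Spec (CommRingCat.of k))} [GrpObj G] [GrpObj H]
  [LocallyOfFiniteType G.hom] [QuasiCompact G.hom] [LocallyOfFiniteType H.hom] [QuasiCompact H.hom]
  (f : G ⟶ H) [IsMonHom f] [IsFinite f.left]

include f

/-- The image of a smooth connected subgroup. -/
theorem exists_image {U : Over (Spec (CommRingCat.of k))} [GrpObj U] (i : U ⟶ G) [IsMonHom i]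
    [IsClosedImmersion i.left] [Smooth U.hom] [ConnectedSpace U.left] :
    ∃ (V : Over (Spec (CommRingCat.of k))) (_ : GrpObj V) (j : V ⟶ H) (p : U ⟶ V), IsMonHom j ∧
      IsClosedImmersion j.left ∧ Smooth V.hom ∧ QuasiCompact V.hom ∧ ConnectedSpace V.left ∧ IsMonHom p ∧
      IsFinite p.left ∧ Surjective p.left := by
  haveI : QuasiCompact U.hom := by rw [← Over.w i]; infer_instance
  obtain ⟨V, gV, p, j, hp, hj, hpj, hjc, hpf, hps, hVl, hVq⟩ := GrpSchLib.ImageFactor.exists_image (i ≫ f)
  haveI := hp; haveI := hj; haveI := hjc; haveI := hpf; haveI := hps; haveI := hVl; haveI := hVq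
  haveI := MaxNormal.quasiCompact_hom p
  haveI : Smooth (p.left ≫ V.hom) := by rw [Over.w p]; infer_instance
  haveI : Smooth V.hom := GrpSchLib.smooth_of_flat_surjective p.left V.hom
  haveI : ConnectedSpace V.left := p.left.surjective.connectedSpace p.left.continuous
  haveI : IsFinite (p.left ≫ j.left) := by
    rw [← Over.comp_left, hpj, Over.comp_left]; infer_instance
  exact ⟨V, gV, j, p, hj, hjc, inferInstance, inferInstance, inferInstance, hp, IsFinite.of_comp p.left j.left, hps⟩

variable [Surjective f.left]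

/-- A smooth connected subgroup lifts along an isogeny. -/
theorem exists_lift {U : Over (Spec (CommRingCat.of k))} [GrpObj U] (i : U ⟶ H) [IsMonHom i]
    [IsClosedImmersion i.left] [Smooth U.hom] [ConnectedSpace U.left] :
    ∃ (V : Over (Spec (CommRingCat.of k))) (_ : GrpObj V) (j : V ⟶ G) (p : V ⟶ U), IsMonHom j ∧
      IsClosedImmersion j.left ∧ Smooth V.hom ∧ QuasiCompact V.hom ∧ ConnectedSpace V.left ∧ IsMonHom p ∧
      IsFinite p.left ∧ Surjective p.left := by
  haveI := MaxNormal.mono_of_closed i
  haveI : QuasiCompact U.hom := by rw [← Over.w i]; infer_instance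
  let E : Over (Spec (CommRingCat.of k)) := Over.mk (pullback.fst f.left i.left ≫ G.hom)
  let e : E ⟶ G := Over.homMk (pullback.fst f.left i.left) rfl
  let π : E ⟶ U := Over.homMk (pullback.snd f.left i.left) (by
    show pullback.snd f.left i.left ≫ U.hom = pullback.fst f.left i.left ≫ G.hom
    rw [← Over.w i, ← pullback.condition_assoc, Over.w f])
  have hep : e ≫ f = π ≫ i := Over.OverMorphism.ext pullback.condition
  haveI : IsClosedImmersion e.left := MorphismProperty.pullback_fst _ _ inferInstance
  haveI := MaxNormal.mono_of_closed e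
  haveI : IsFinite π.left := MorphismProperty.pullback_snd _ _ inferInstance
  haveI : Surjective π.left := MorphismProperty.pullback_snd _ _ inferInstance
  have hlift : ∀ {T : Over (Spec (CommRingCat.of k))} (g : T ⟶ G) (x : T ⟶ U), g ≫ f = x ≫ i →
      ∃ y : T ⟶ E, y ≫ e = g := fun {T} g x h => by
    refine ⟨Over.homMk (pullback.lift g.left x.left (by rw [← Over.comp_left, ← Over.comp_left, h])) ?_,
      Over.OverMorphism.ext (pullback.lift_fst _ _ _)⟩
    show pullback.lift _ _ _ ≫ pullback.fst f.left i.left ≫ G.hom = T.hom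
    rw [pullback.lift_fst_assoc, Over.w g]
  have hmem : ∀ {T : Over (Spec (CommRingCat.of k))} (y : T ⟶ E), (y ≫ e) ≫ f = (y ≫ π) ≫ i := fun y => by
    rw [Category.assoc, hep, Category.assoc]
  obtain ⟨η', he⟩ := hlift η[G] η[U] (by rw [IsMonHom.one_hom, IsMonHom.one_hom])
  obtain ⟨μ', hm⟩ := hlift ((fst E E ≫ e) * (snd E E ≫ e)) ((fst E E ≫ π) * (snd E E ≫ π)) (by
    rw [MonObj.mul_comp, MonObj.mul_comp, hmem, hmem])
  obtain ⟨ν, hv⟩ := hlift e⁻¹ π⁻¹ (by rw [GrpObj.inv_comp, GrpObj.inv_comp, hep])
  obtain ⟨str, he'⟩ := exists_grpObj_of_mono e η' he μ' hm ν hv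
  letI := str
  haveI := he'
  haveI : IsMonHom π := Deform.isMonHom_of_comp π i (i := e ≫ f) hep.symm
  haveI : LocallyOfFiniteType E.hom := by rw [← Over.w e]; infer_instance
  haveI : QuasiCompact E.hom := by rw [← Over.w e]; infer_instance
  obtain ⟨R, gR, r, hr, hrc, hRr, hrs, hRl, hRq⟩ := GrpSchLib.RedSubgroup.exists_redSubgroup E
  haveI := hr; haveI := hrc; haveI := hRr; haveI := hrs; haveI := hRl; haveI := hRq
  haveI : Smooth R.hom := GrpSchLib.smooth_of_perfectField_of_isReduced R
  obtain ⟨V, gV, c, hc, hcc, hco, hs, hqc, hconn, -⟩ := Chev.exists_neutral R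
  haveI := hc; haveI := hcc; haveI := hco; haveI := hs; haveI := hqc; haveI := hconn
  haveI : Surjective (r ≫ π).left := by rw [Over.comp_left]; infer_instance
  haveI : IsReduced U.left := GrpSchLib.isReduced_of_smooth_field U.hom
  haveI : QuasiCompact (r ≫ π).left := MaxNormal.quasiCompact_hom (r ≫ π)
  haveI : Flat (r ≫ π).left := GrpSchLib.flat_of_surjective_hom (r ≫ π)
  haveI : IsFinite (r ≫ π).left := by rw [Over.comp_left]; infer_instance
  let p : V ⟶ U := c ≫ r ≫ π
  haveI : IsFinite p.left := by
    show IsFinite (c.left ≫ (r ≫ π).left); infer_instance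
  haveI : Flat p.left := by
    show Flat (c.left ≫ (r ≫ π).left); infer_instance
  haveI : IsLocallyNoetherian U.left := LocallyOfFiniteType.isLocallyNoetherian U.hom
  haveI : LocallyOfFinitePresentation p.left := inferInstance
  have hsurj : Surjective p.left := ⟨fun x => by
    have hcl : IsClopen (Set.range p.left) :=
      ⟨p.left.isClosedMap.isClosed_range, p.left.isOpenMap.isOpen_range⟩
    exact (hcl.eq_univ ⟨_, η[V].left (IsLocalRing.closedPoint k), rfl⟩).ge (Set.mem_univ x)⟩
  refine ⟨V, gV, c ≫ r ≫ e, p, inferInstance, ?_, hs, hqc, hconn, inferInstance, inferInstance, hsurj⟩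
  show IsClosedImmersion (c.left ≫ r.left ≫ e.left)
  infer_instance

end Groth.Agent.Deform.IsogSub

namespace Groth.Agent.Deform.IsogSub

open FrobDesc (yK)

variable {k : Type u} [Field k] [IsAlgClosed k] {U V : Over (Spec (CommRingCat.of k))} [GrpObj U] [GrpObj V]
  [Smooth U.hom] [QuasiCompact U.hom] [ConnectedSpace U.left] [Smooth V.hom]
  (p : U ⟶ V) [IsMonHom p] [Surjective p.left] [IsFinite p.left]

include p

/-- Solvability is invariant under isogeny. -/
theorem isSolvableGrp_iff : Red.IsSolvableGrp U ↔ Red.IsSolvableGrp V := by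
  let σ := yK k k
  haveI : Smooth (Red.bc σ U).hom := inferInstanceAs (Smooth (Limits.pullback.snd U.hom σ))
  haveI : Smooth (Red.bc σ V).hom := inferInstanceAs (Smooth (Limits.pullback.snd V.hom σ))
  haveI : QuasiCompact (Red.bc σ U).hom := inferInstanceAs (QuasiCompact (Limits.pullback.snd U.hom σ))
  haveI : ConnectedSpace (Red.bc σ U).left := GrpSchLib.AntiAffine.connectedSpace_bc U (algebraMap k k)
  haveI : Surjective ((Over.pullback σ).map p).left :=
    MorphismProperty.of_isPullback (P := @Surjective) (GrpSchLib.HomSplitLocal.isPullback_map p σ) inferInstance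
  haveI : IsFinite ((Over.pullback σ).map p).left :=
    MorphismProperty.of_isPullback (P := @IsFinite) (GrpSchLib.HomSplitLocal.isPullback_map p σ) inferInstance
  haveI := GrpSchLib.AntiAffine.isSeparated_grp U
  haveI := GrpSchLib.AntiAffine.isSeparated_grp V
  rw [IsogProps.isSolvableGrp_iff (K := k), IsogProps.isSolvableGrp_iff (K := k)]
  exact IsogProps.solvable_iff ((Over.pullback σ).map p)

end Groth.Agent.Deform.IsogSub
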